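import Groth.Agent.H86.Serre.Basic
import Groth.Agent.H18.TwistPow
import Groth.Agent.Lead.Coh.ProjSpaceCover
import Groth.Agent.Lead.Coh.SigmaSplit
import Groth.Agent.H71.QCoh.TensorQCoh
import Groth.Agent.S4402
import Groth.Agent.S0844
import Groth.Agent.S0022
import Groth.Agent.S9514
import Groth.Agent.S2357

/-!
# Serre vanishing on projective space over a Noetherian ring

`serre_vanishing N B F hF : ∃ m₀ : ℤ, ∀ m ≥ m₀, ∀ q > 0,
  Subsingleton (Coh.HH (Proj (CohB1.polyGrading N B)) (Twist.twistBy (CohB1.polyGrading N B) F m) q)`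
for `B` Noetherian and `F` coherent on `P^N_B`.
-/

set_option autoImplicit false
universe u
open CategoryTheory CategoryTheory.Limits AlgebraicGeometry

namespace Groth.Agent.H86.Serre

variable (N : ℕ) (B : Type u) [CommRing B]

/-- every point of `P^N_B` lies in some `D₊(X_i)` -/
lemma hcov (x : ProjectiveSpectrum (CohB1.polyGrading N B)) :
    ∃ f : MvPolynomial (Fin (N + 1)) B, f ∈ CohB1.polyGrading N B 1 ∧
      f ∉ x.asHomogeneousIdeal := by
  by_contra hcon
  push Not at hcon
  apply x.not_irrelevant_le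
  change (HomogeneousIdeal.irrelevant (CohB1.polyGrading N B)).toIdeal ≤
    x.asHomogeneousIdeal.toIdeal
  refine (Groth.Agent.Lead.Coh.irrelevant_le_span_X N B).trans ?_
  rw [Ideal.span_le]
  rintro _ ⟨i, rfl⟩
  exact hcon _ ((MvPolynomial.mem_homogeneousSubmodule _ _).2 (MvPolynomial.isHomogeneous_X B i))

open scoped Classical in
/-- the irrelevant ideal of the polynomial ring is generated by the variables -/
lemma irrelevant_eq_span :
    (HomogeneousIdeal.irrelevant (CohB1.polyGrading N B)).toIdeal =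
      Ideal.span (((Finset.univ : Finset (Fin (N + 1))).image
        (MvPolynomial.X : Fin (N + 1) → MvPolynomial (Fin (N + 1)) B) :
          Finset (MvPolynomial (Fin (N + 1)) B)) : Set (MvPolynomial (Fin (N + 1)) B)) := by
  rw [Finset.coe_image, Finset.coe_univ, Set.image_univ]
  apply le_antisymm (Groth.Agent.Lead.Coh.irrelevant_le_span_X N B)
  rw [Ideal.span_le]
  rintro _ ⟨i, rfl⟩
  exact HomogeneousIdeal.mem_irrelevant_of_mem (CohB1.polyGrading N B) Nat.one_pos
    ((MvPolynomial.mem_homogeneousSubmodule _ _).2 (MvPolynomial.isHomogeneous_X B i))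

lemma isInvertible_twist (d : ℤ) :
    PicF.IsInvertible (Twist.twist (CohB1.polyGrading N B) d) :=
  Groth.Agent.H18.isInvertible_twist (CohB1.polyGrading N B) (hcov N B) d

lemma isCoh_twist (d : ℤ) : Coh.IsCoh (Twist.twist (CohB1.polyGrading N B) d) := by
  have h := isFinLocFree_of_isInvertible _ (isInvertible_twist N B d)
  haveI := isQuasicoherent_of_isFinLocFree _ h
  exact ⟨inferInstance, Groth.Agent.H71.QCoh.isFiniteType_of_isFinLocFree _ h⟩

/-- `O(a) ⊗ O(m) ≅ O(a + m)` -/
lemma nonempty_twistBy_twist_iso (a m : ℤ) :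
    Nonempty (Twist.twistBy (CohB1.polyGrading N B) (Twist.twist (CohB1.polyGrading N B) a) m ≅
      Twist.twist (CohB1.polyGrading N B) (a + m)) :=
  Groth.Agent.H18.TwMul.nonempty_tensorMod_tilde_twist_iso (CohB1.polyGrading N B)
    (CohB1.polyGrading N B) (hcov N B) a m (a + m) rfl

/-- twists of a coherent module are coherent -/
lemma isCoh_twistBy (F : (Proj (CohB1.polyGrading N B)).Modules) (hF : Coh.IsCoh F) (m : ℤ) :
    Coh.IsCoh (Twist.twistBy (CohB1.polyGrading N B) F m) := by
  have h1 := hF.1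
  have h2 := hF.2
  have h3 := (isCoh_twist N B m).1
  have h4 := (isCoh_twist N B m).2
  exact ⟨Groth.Agent.H71.QCoh.isQuasicoherent_tensorMod F _,
    Groth.Agent.H71.QCoh.isFiniteType_tensorMod F _⟩

/-- the statement of Serre vanishing in a fixed degree `q` -/
def SVAt (q : ℕ) : Prop :=
  ∀ F : (Proj (CohB1.polyGrading N B)).Modules, Coh.IsCoh F → ∃ m₀ : ℤ, ∀ m : ℤ, m₀ ≤ m →
    Subsingleton (Coh.HH (Proj (CohB1.polyGrading N B)) (Twist.twistBy (CohB1.polyGrading N B) F m) q)

lemma subsingleton_of_gt (F : (Proj (CohB1.polyGrading N B)).Modules) (hF : Coh.IsCoh F) (m : ℤ)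
    (q : ℕ) (hq : N < q) :
    Subsingleton (Coh.HH (Proj (CohB1.polyGrading N B)) (Twist.twistBy (CohB1.polyGrading N B) F m) q) := by
  exact @Groth.Agent.S0022.result N B _ (Twist.twistBy (CohB1.polyGrading N B) F m)
    (isCoh_twistBy N B F hF m).1 q hq

lemma svAt_of_gt (q : ℕ) (hq : N < q) : SVAt N B q :=
  fun F hF => ⟨0, fun m _ => subsingleton_of_gt N B F hF m q hq⟩

/-- cohomology of `O(d)` vanishes in positive degrees for `d ≥ -N` -/
lemma subsingleton_twist (d : ℤ) (hd : -(N : ℤ) ≤ d) (q : ℕ) (hq : 0 < q) :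
    Subsingleton (Coh.HH (Proj (CohB1.polyGrading N B)) (Twist.twist (CohB1.polyGrading N B) d) q) :=
  Groth.Agent.S0844.result B N d q (fun h => by omega) (fun h => by omega)

variable [IsNoetherianRing B]

lemma isNoetherian_projSpace : IsNoetherian (Proj (CohB1.polyGrading N B)) :=
  Groth.Agent.S2357.result (CohB1.polyGrading N B)

/-- the inductive step: vanishing in degree `q + 1` for all coherent modules gives vanishing in
degree `q > 0` -/
lemma svAt_step (q : ℕ) (hq : 0 < q) (h : SVAt N B (q + 1)) : SVAt N B q := by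
  intro F hF
  haveI : IsNoetherian (Proj (CohB1.polyGrading N B)) := isNoetherian_projSpace N B
  obtain ⟨n₀, hn₀⟩ := Groth.Agent.S4402.result (CohB1.polyGrading N B) _
    (fun f hf => by
      classical
      obtain ⟨i, -, rfl⟩ := Finset.mem_image.1 hf
      exact (MvPolynomial.mem_homogeneousSubmodule _ _).2 (MvPolynomial.isHomogeneous_X B i))
    (irrelevant_eq_span N B) F hF.1 hF.2
  obtain ⟨k, p, hp⟩ := hn₀ n₀ le_rfl
  -- the short exact sequence `0 → K → O(-n₀)^k → F → 0`
  let E : ShortComplex (Proj (CohB1.polyGrading N B)).Modules :=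
    ShortComplex.mk (kernel.ι p) p (kernel.condition p)
  have hE : E.ShortExact :=
    { exact := ShortComplex.exact_of_f_is_kernel E (kernelIsKernel p)
      mono_f := inferInstanceAs (Mono (kernel.ι p))
      epi_g := hp }
  have hPow : Coh.IsCoh (∐ fun _ : Fin k => Twist.twist (CohB1.polyGrading N B) (-(n₀ : ℤ))) :=
    Groth.Agent.Lead.SigmaSplit.isCoh_pow _ (isCoh_twist N B _) k
  have hK : Coh.IsCoh (kernel p) := (Groth.Agent.S9514.result _ hPow hF p).1
  obtain ⟨m₁, hm₁⟩ := h (kernel p) hK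
  refine ⟨max m₁ (n₀ : ℤ), fun m hm => ?_⟩
  have hm1 : m₁ ≤ m := le_trans (le_max_left _ _) hm
  have hm2 : (n₀ : ℤ) ≤ m := le_trans (le_max_right _ _) hm
  let L := Twist.twist (CohB1.polyGrading N B) m
  have hL : PicF.IsInvertible L := isInvertible_twist N B m
  have hT := shortExact_map_tensorRightMod L hL E hE
  -- the middle term has vanishing cohomology
  have h₂ : Subsingleton (Coh.HH (Proj (CohB1.polyGrading N B)) (E.map (DCoh.tensorRightMod L)).X₂ q) := by
    refine subsingleton_of_iso (tensorRightModSigmaIso L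
      (fun _ : Fin k => Twist.twist (CohB1.polyGrading N B) (-(n₀ : ℤ)))).symm q ?_
    refine subsingleton_sigma _ q (fun _ => ?_)
    obtain ⟨e⟩ := nonempty_twistBy_twist_iso N B (-(n₀ : ℤ)) m
    refine subsingleton_of_iso e.symm q ?_
    exact subsingleton_twist N B _ (by omega) q hq
  have h₁ : Subsingleton (Coh.HH (Proj (CohB1.polyGrading N B)) (E.map (DCoh.tensorRightMod L)).X₁ (q + 1)) :=
    hm₁ m hm1
  exact subsingleton_X₃ _ hT q h₂ h₁

lemma svAt_all : ∀ (d q : ℕ), 0 < q → N + 1 ≤ q + d → SVAt N B q := by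
  intro d
  induction d with
  | zero => intro q _ h; exact svAt_of_gt N B q (by omega)
  | succ d ih =>
    intro q hq h
    by_cases hN : N < q
    · exact svAt_of_gt N B q hN
    · exact svAt_step N B q hq (ih (q + 1) (by omega) (by omega))

/-- **Serre vanishing** on `P^N_B = Proj B[X₀..X_N]`, `B` Noetherian (typed on `Proj`) -/
theorem serre_vanishing_proj (F : (Proj (CohB1.polyGrading N B)).Modules) (hF : Coh.IsCoh F) :
    ∃ m₀ : ℤ, ∀ m : ℤ, m₀ ≤ m → ∀ q : ℕ, 0 < q →
      Subsingleton (Coh.HH (Proj (CohB1.polyGrading N B))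
        (Twist.twistBy (CohB1.polyGrading N B) F m) q) := by
  classical
  have key : ∀ q : ℕ, ∃ m₀ : ℤ, 0 < q → ∀ m : ℤ, m₀ ≤ m →
      Subsingleton (Coh.HH (Proj (CohB1.polyGrading N B))
        (Twist.twistBy (CohB1.polyGrading N B) F m) q) := by
    intro q
    by_cases hq : 0 < q
    · obtain ⟨m₀, hm₀⟩ := svAt_all N B (N + 1) q hq (by omega) F hF
      exact ⟨m₀, fun _ => hm₀⟩
    · exact ⟨0, fun h => absurd h hq⟩
  choose g hg using key
  obtain ⟨M, hM⟩ := Finset.exists_le ((Finset.range (N + 1)).image g)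
  refine ⟨M, fun m hm q hq => ?_⟩
  by_cases hN : N < q
  · exact subsingleton_of_gt N B F hF m q hN
  · refine hg q hq m (le_trans (hM _ (Finset.mem_image.2 ⟨q, ?_, rfl⟩)) hm)
    exact Finset.mem_range.2 (by omega)

/-- **Serre vanishing** on `P^N_B`, `B` Noetherian: for a coherent module `F` the twists `F(m)` have
no higher cohomology for `m` large. -/
theorem serre_vanishing (F : (CohB1.ProjSpace N B).Modules) (hF : Coh.IsCoh F) :
    ∃ m₀ : ℤ, ∀ m : ℤ, m₀ ≤ m → ∀ q : ℕ, 0 < q →
      Subsingleton (Coh.HH (CohB1.ProjSpace N B)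
        (Twist.twistBy (CohB1.polyGrading N B) F m) q) :=
  serre_vanishing_proj N B F hF

end Groth.Agent.H86.Serre
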