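import Groth.Agent.Lead.Coh.FiniteLES
import Groth.Agent.H5.Stalk.Tensor
import Groth.Agent.H5.PullbackTensor
import Groth.Agent.H71.QCoh.StalkFree
import Groth.Agent.H18.QCohLocal
import Groth.Agent.H44.Retract
import Groth.Prelude.Def_DDual2
import Groth.Prelude.Def_Pic

/-!
# Tools for Serre vanishing: vanishing of `Coh.HH` along isomorphisms, short exact sequences and
finite coproducts; exactness of tensoring with an invertible module.
-/

set_option autoImplicit false
universe u
open CategoryTheory CategoryTheory.Limits AlgebraicGeometry MonoidalCategory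

namespace Groth.Agent.H86.Serre

open Groth.Agent.Lead.FiniteLES

variable {X : Scheme.{u}}

/-- additivity of `HHmap` in the morphism -/
lemma HHmap_add {M N : X.Modules} (φ ψ : M ⟶ N) (n : ℕ) :
    HHmap (φ + ψ) n = HHmap φ n + HHmap ψ n := by
  ext x
  have h : (SheafOfModules.toSheaf X.ringCatSheaf).map (φ + ψ) =
      (SheafOfModules.toSheaf X.ringCatSheaf).map φ +
        (SheafOfModules.toSheaf X.ringCatSheaf).map ψ := Functor.map_add _
  exact (congrArg (fun f => Sheaf.H.map f n x) h).trans (Sheaf.H.map_add_apply _ _ x)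

/-- `HHmap` of the zero morphism is zero -/
lemma HHmap_zero {M N : X.Modules} (n : ℕ) : HHmap (0 : M ⟶ N) n = 0 := by
  have h := HHmap_add (0 : M ⟶ N) 0 n
  rw [add_zero] at h
  exact (add_eq_left.1 h.symm)

/-- `HHmap` of a finite sum of morphisms -/
lemma HHmap_sum {ι : Type*} (s : Finset ι) {M N : X.Modules} (φ : ι → (M ⟶ N)) (n : ℕ) :
    HHmap (∑ j ∈ s, φ j) n = ∑ j ∈ s, HHmap (φ j) n := by
  classical
  induction s using Finset.induction_on with
  | empty => simpa using HHmap_zero (M := M) (N := N) n
  | insert a s ha ih => rw [Finset.sum_insert ha, Finset.sum_insert ha, HHmap_add, ih]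

/-- vanishing of cohomology transfers along isomorphisms -/
lemma subsingleton_of_iso {M N : X.Modules} (e : M ≅ N) (n : ℕ)
    (h : Subsingleton (Coh.HH X M n)) : Subsingleton (Coh.HH X N n) := by
  refine ⟨fun a b => ?_⟩
  have key : ∀ c : Coh.HH X N n, c = HHmap e.hom n (HHmap e.inv n c) := by
    intro c
    rw [← LinearMap.comp_apply, ← HHmap_comp, e.inv_hom_id, HHmap_id]
    rfl
  rw [key a, key b, Subsingleton.elim (HHmap e.inv n a) (HHmap e.inv n b)]

/-- the long exact sequence step used for vanishing: `H^n(X₂) = 0` and `H^{n+1}(X₁) = 0` give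
`H^n(X₃) = 0` -/
lemma subsingleton_X₃ (E : ShortComplex X.Modules) (hE : E.ShortExact) (n : ℕ)
    (h₂ : Subsingleton (Coh.HH X E.X₂ n)) (h₁ : Subsingleton (Coh.HH X E.X₁ (n + 1))) :
    Subsingleton (Coh.HH X E.X₃ n) := by
  refine subsingleton_of_forall_eq 0 (fun x => ?_)
  have hx : x ∈ LinearMap.ker (HHδ E hE n) := by
    rw [LinearMap.mem_ker]
    exact Subsingleton.elim _ _
  rw [ker_HHδ E hE n] at hx
  obtain ⟨y, rfl⟩ := hx
  rw [Subsingleton.elim y 0, map_zero]

/-- the identity of a finite coproduct is the sum of the projections followed by the inclusions -/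
lemma sigma_total {C : Type*} [Category C] [Preadditive C] {ι : Type*} [Fintype ι] [DecidableEq ι]
    (f : ι → C) [HasCoproduct f] :
    ∑ j, Sigma.π f j ≫ Sigma.ι f j = 𝟙 (∐ f) := by
  apply Sigma.hom_ext
  intro i
  rw [Preadditive.comp_sum, Category.comp_id]
  rw [Finset.sum_eq_single i]
  · rw [← Category.assoc, Sigma.ι_π_eq_id, Category.id_comp]
  · intro j _ hj
    rw [← Category.assoc, Sigma.ι_π_of_ne f (Ne.symm hj), zero_comp]
  · intro h
    exact absurd (Finset.mem_univ i) h

/-- cohomology of a finite coproduct vanishes if the cohomology of each term does -/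
lemma subsingleton_sigma {ι : Type} [Fintype ι] (M : ι → X.Modules) (n : ℕ)
    (h : ∀ j, Subsingleton (Coh.HH X (M j) n)) : Subsingleton (Coh.HH X (∐ M) n) := by
  classical
  refine subsingleton_of_forall_eq 0 (fun x => ?_)
  have h1 : x = HHmap (𝟙 (∐ M)) n x := by rw [HHmap_id]; rfl
  rw [h1, ← sigma_total M, HHmap_sum, LinearMap.sum_apply]
  refine Finset.sum_eq_zero (fun j _ => ?_)
  rw [HHmap_comp, LinearMap.comp_apply, Subsingleton.elim (HHmap (Sigma.π M j) n x) 0, map_zero]

/-- an invertible module is finite locally free -/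
lemma isFinLocFree_of_isInvertible (L : X.Modules) (hL : PicF.IsInvertible L) :
    FlatMod.IsFinLocFree L := by
  intro x
  obtain ⟨U, hx, ⟨e⟩⟩ := hL x
  refine ⟨U, 1, hx, ⟨e ≪≫ ?_⟩⟩
  exact
    { hom := Sigma.ι (fun _ : Fin 1 => Coh.structureModule (↑U)) 0
      inv := Sigma.desc (fun _ => 𝟙 _)
      hom_inv_id := by simp
      inv_hom_id := by
        apply Sigma.hom_ext
        intro i
        have hi : i = 0 := Subsingleton.elim _ _
        subst hi
        simp }

/-- finite locally free modules are quasi-coherent -/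
lemma isQuasicoherent_of_isFinLocFree (M : X.Modules) (h : FlatMod.IsFinLocFree M) :
    M.IsQuasicoherent := by
  choose U n hxU e using h
  refine Groth.Agent.H18.isQuasicoherent_of_isOpenCover M U ?_ (fun x => ?_)
  · refine TopologicalSpace.IsOpenCover.mk (eq_top_iff.2 fun x _ => ?_)
    exact TopologicalSpace.Opens.mem_iSup.2 ⟨x, hxU x⟩
  · have := Groth.Agent.H44.isQuasicoherent_freeMod (X := (U x : Scheme.{u})) (n x)
    exact (SheafOfModules.isQuasicoherent (U x : Scheme.{u}).ringCatSheaf).prop_of_iso
      (e x).some.symm this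

/-- an invertible module is flat -/
lemma isFlat_of_isInvertible (L : X.Modules) (hL : PicF.IsInvertible L) : FlatMod.IsFlat L := by
  have h := isFinLocFree_of_isInvertible L hL
  haveI := isQuasicoherent_of_isFinLocFree L h
  intro x
  have := Groth.Agent.H71.QCoh.free_stalks_of_isFinLocFree L h x
  exact Module.Flat.of_free

open Groth.Agent.H5.Stalk Groth.Agent.H5.Stalk.Tensor in
/-- the stalk of `S ⊗ L` is `S_x ⊗ L_x`, as short complexes -/
noncomputable def stalkMapIso (x : X) (L : X.Modules) (S : ShortComplex X.Modules) :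
    (S.map (DCoh.tensorRightMod L)).map (stalkFunctor x) ≅
      (S.map (stalkFunctor x)).map (tensorRight ((stalkFunctor x).obj L)) :=
  ShortComplex.isoMk (stalkTensorIso x S.X₁ L) (stalkTensorIso x S.X₂ L) (stalkTensorIso x S.X₃ L)
    (stalkTensorIso_hom_naturality_left x S.f L).symm
    (stalkTensorIso_hom_naturality_left x S.g L).symm

open Groth.Agent.H5.Stalk Groth.Agent.H5.Stalk.Tensor in
/-- tensoring with a (stalkwise) flat module preserves short exact sequences -/
lemma shortExact_map_tensorRightMod_of_isFlat (L : X.Modules) (hL : FlatMod.IsFlat L)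
    (S : ShortComplex X.Modules) (hS : S.ShortExact) :
    (S.map (DCoh.tensorRightMod L)).ShortExact := by
  have key : ∀ x : X, ((S.map (DCoh.tensorRightMod L)).map (stalkFunctor x)).ShortExact := by
    intro x
    haveI : Module.Flat (X.presheaf.stalk x) ((stalkFunctor x).obj L) := hL x
    haveI : PreservesFiniteLimits (tensorRight ((stalkFunctor x).obj L)) :=
      (Module.Flat.iff_preservesFiniteLimits_tensorRight _).1 inferInstance
    have h1 : (S.map (stalkFunctor x)).ShortExact := stalkFunctor_map_shortExact x S hS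
    exact ShortComplex.shortExact_of_iso (stalkMapIso x L S).symm
      (h1.map_of_exact (tensorRight ((stalkFunctor x).obj L)))
  haveI : Mono (S.map (DCoh.tensorRightMod L)).f :=
    mono_of_mono_stalkFunctor_map _ (fun x => (key x).mono_f)
  haveI : Epi (S.map (DCoh.tensorRightMod L)).g :=
    Groth.Agent.H5.PullbackTensor.epi_of_epi_stalkFunctor_map _ (fun x => (key x).epi_g)
  exact
    { exact := (shortComplex_exact_iff_stalk _).2 (fun x => (key x).exact)
      mono_f := inferInstance
      epi_g := inferInstance }

/-- tensoring with an invertible module preserves short exact sequences -/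
lemma shortExact_map_tensorRightMod (L : X.Modules) (hL : PicF.IsInvertible L)
    (S : ShortComplex X.Modules) (hS : S.ShortExact) :
    (S.map (DCoh.tensorRightMod L)).ShortExact :=
  shortExact_map_tensorRightMod_of_isFlat L (isFlat_of_isInvertible L hL) S hS

/-- tensoring with a module commutes with finite coproducts -/
noncomputable def tensorRightModSigmaIso (L : X.Modules) {k : ℕ} (M : Fin k → X.Modules) :
    (DCoh.tensorRightMod L).obj (∐ M) ≅ ∐ fun j => (DCoh.tensorRightMod L).obj (M j) :=
  PreservesCoproduct.iso (DCoh.tensorRightMod L) M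

end Groth.Agent.H86.Serre
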