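import Groth.Agent.H86.Serre.Main
import Groth.Agent.H96.S0002.ProjFormulaTwist
import Groth.Agent.H67.DevGen2
import Groth.Agent.H44.PullbackAffine
import Groth.Agent.S0012

/-!
# Serre vanishing for a closed subscheme of `P^r_A`

For a closed immersion `i : X ⟶ P^r_A` (`A` Noetherian) and a coherent `O_X`-module `F`, the twists
`F ⊗ i^* O(n)` have no higher cohomology for `n` large.
-/

set_option autoImplicit false
universe u
open CategoryTheory CategoryTheory.Limits AlgebraicGeometry

namespace Groth.Agent.H86.Serre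

variable (r : ℕ) (A : Type u) [CommRing A]

/-- `F ⊗ i^* O(n)` is quasi-coherent for quasi-coherent `F` -/
lemma isQuasicoherent_tensor_pullback_twist {X : Scheme.{u}} (i : X ⟶ CohB1.ProjSpace r A)
    (F : X.Modules) (hF : F.IsQuasicoherent) (n : ℤ) :
    (CohB1.tensorMod F
      ((Scheme.Modules.pullback i).obj (Twist.twistProjSpace r A n))).IsQuasicoherent := by
  have h1 : (Twist.twistProjSpace r A n).IsQuasicoherent := (isCoh_twist r A n).1
  have h2 : ((Scheme.Modules.pullback i).obj (Twist.twistProjSpace r A n)).IsQuasicoherent :=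
    Groth.Agent.H44.isQuasicoherent_pullback (f := i) (F := Twist.twistProjSpace r A n)
  exact Groth.Agent.H71.QCoh.isQuasicoherent_tensorMod F _

/-- **Serre vanishing** for a closed subscheme of `P^r_A`, `A` Noetherian -/
theorem serre_vanishing_closed [IsNoetherianRing A] {X : Scheme.{u}}
    (i : X ⟶ CohB1.ProjSpace r A) [IsClosedImmersion i] (F : X.Modules) (hF : Coh.IsCoh F) :
    ∃ m₀ : ℤ, ∀ n : ℤ, m₀ ≤ n → ∀ q : ℕ, 0 < q →
      Subsingleton (Coh.HH X (CohB1.tensorMod F
        ((Scheme.Modules.pullback i).obj (Twist.twistProjSpace r A n))) q) := by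
  have hpush : Coh.IsCoh ((Scheme.Modules.pushforward i).obj F) :=
    Groth.Agent.H67.Dev.isCoh_push_closed i hF
  obtain ⟨m₀, hm₀⟩ := serre_vanishing r A _ hpush
  refine ⟨m₀, fun n hn q hq => ?_⟩
  haveI := isQuasicoherent_tensor_pullback_twist r A i F hF.1 n
  obtain ⟨e⟩ := Groth.Agent.S0012.result i (CohB1.tensorMod F
    ((Scheme.Modules.pullback i).obj (Twist.twistProjSpace r A n))) q
  have h1 : Subsingleton (Coh.HH (CohB1.ProjSpace r A)
      ((Scheme.Modules.pushforward i).obj (CohB1.tensorMod F
        ((Scheme.Modules.pullback i).obj (Twist.twistProjSpace r A n)))) q) :=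
    subsingleton_of_iso
      (@Groth.Agent.H96.PF.twistIso' A _ _ _ _ (CohB1.polyGrading r A) _ X i
        ‹IsClosedImmersion i› F n) q (hm₀ n hn q hq)
  exact e.toEquiv.subsingleton

end Groth.Agent.H86.Serre
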